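import Cfsg.Agent.H39.LocalGlobal
import Cfsg.Agent.Lib.Cores
import Cfsg.Agent.Lib.NormalHall
import Mathlib.GroupTheory.Transfer
import Mathlib
set_option linter.all false

-- part: H39/Struct
section
/-!
# Structure of groups with `C_G(O_p(G)) ≰ O_p(G)`
-/

set_option autoImplicit false

namespace Cfsg.Agent.H39

open Subgroup Cfsg
open Cfsg.Agent.Lib.GoldschmidtFusion

variable {G : Type*} [Group G] [Finite G] {p : ℕ} [Fact p.Prime]

/-- `p`-elements of a subgroup of order prime to `p` are trivial. -/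
theorem eq_one_of_mem_of_mem {S K : Subgroup G} (hS : IsPGroup p S) (hK : ¬ p ∣ Nat.card K) {x : G}
    (hx : x ∈ S) (hxK : x ∈ K) : x = 1 := by
  have h1 : IsPGroup p (S ⊓ K : Subgroup G) := hS.to_le inf_le_left
  obtain ⟨k, hk⟩ := IsPGroup.iff_card.1 h1
  have h2 : Nat.card (S ⊓ K : Subgroup G) ∣ Nat.card K := Subgroup.card_dvd_of_le inf_le_right
  rcases Nat.eq_zero_or_pos k with h0 | h0
  · rw [h0, pow_zero] at hk
    have := Subgroup.card_eq_one.1 hk
    have hx' : x ∈ (S ⊓ K : Subgroup G) := ⟨hx, hxK⟩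
    rw [this] at hx'
    exact hx'
  · exfalso
    apply hK
    rw [hk] at h2
    exact (dvd_pow_self p h0.ne').trans h2

/-- If `C_G(P) ≰ P`, `P = O_p(G)` and `G` has no nontrivial normal `p'`-subgroup then the Sylow
`p`-subgroup `S ⊓ (C_G(P) ⊔ P)` of `C_G(P) P` is not normal in `G`. -/
theorem normalizer_ne_top (S : Sylow p G)
    (hK : ∀ K : Subgroup G, K.Normal → ¬ p ∣ Nat.card K → K = ⊥)
    (hC : ¬ centralizer (pCore p G : Set G) ≤ pCore p G) :
    normalizer (((S : Subgroup G) ⊓ (centralizer (pCore p G : Set G) ⊔ pCore p G) : Subgroup G) : Set G) ≠ ⊤ := by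
  intro htop
  set P := pCore p G with hP
  have hPn : P.Normal := by
    have := Lib.Cores.pCore_def (G := G) p
    rw [hP, this]
    exact Lib.Cores.sSup_normal _ (fun N hN => hN.1)
  set C := centralizer (P : Set G) with hCdef
  have hCn : C.Normal := inferInstance
  have hDn : ((S : Subgroup G) ⊓ (C ⊔ P)).Normal := normalizer_eq_top_iff.1 htop
  have hDP : (S : Subgroup G) ⊓ (C ⊔ P) ≤ P :=
    Lib.Cores.le_pCore hDn (S.isPGroup'.to_le inf_le_left)
  have hi : ¬ p ∣ (S : Subgroup G).relIndex C := fun h =>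
    S.not_dvd_index (h.trans (relIndex_dvd_index_of_normal_right _ _))
  have hR' : IsPGroup p ((S : Subgroup G).subgroupOf C) :=
    S.isPGroup'.comap_of_injective C.subtype C.subtype_injective
  let R : Sylow p C := hR'.toSylow hi
  have hRle : ∀ x ∈ (R : Subgroup C), (x : G) ∈ P := by
    intro x hx
    exact hDP ⟨hx, le_sup_left (a := C) (b := P) x.2⟩
  have hcent : normalizer ((R : Subgroup C) : Set C) ≤ centralizer ((R : Subgroup C) : Set C) := by
    intro y _
    rw [mem_centralizer_iff]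
    intro x hx
    apply Subtype.ext
    exact mem_centralizer_iff.1 y.2 x (hRle x hx)
  have hcomp := MonoidHom.ker_transferSylow_isComplement' R hcent
  set K₀ := (MonoidHom.transferSylow R hcent).ker with hK₀
  have hnd : ¬ p ∣ Nat.card K₀ := MonoidHom.not_dvd_card_ker_transferSylow R hcent
  have hidx : K₀.index = Nat.card R := hcomp.symm.index_eq_card
  have hcop : (Nat.card K₀).Coprime K₀.index := by
    rw [hidx]
    obtain ⟨k, hk⟩ := IsPGroup.iff_card.1 R.isPGroup'
    rw [show Nat.card R = p ^ k from hk]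
    exact Nat.Coprime.pow_right _ ((Nat.Prime.coprime_iff_not_dvd Fact.out).2 hnd).symm
  have hK₁ : (K₀.map C.subtype).Normal := Lib.NormalHall.normal_map_subtype_of_coprime C K₀ hcop
  have h1 := hK _ hK₁ (by rwa [card_map_of_injective C.subtype_injective])
  have h2 : K₀ = ⊥ := (Subgroup.map_eq_bot_iff_of_injective _ C.subtype_injective).1 h1
  rw [h2, isComplement'_bot_left] at hcomp
  apply hC
  intro x hx
  have : (⟨x, hx⟩ : C) ∈ (R : Subgroup C) := by rw [hcomp]; exact mem_top _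
  exact hRle _ this

end Cfsg.Agent.H39
end

-- part: H39/Sec
section
/-!
# Sections of a group
-/

set_option autoImplicit false

namespace Cfsg.Agent.H39

open Subgroup

universe u v w

/-- `X` is (isomorphic to) a section of `G`. -/
def IsSec (G : Type u) (X : Type v) [Group G] [Group X] : Prop :=
  ∃ (K : Subgroup G) (f : K →* X), Function.Surjective f

section

variable {G : Type u} {X : Type v} {Y : Type w} [Group G] [Group X] [Group Y]

theorem IsSec.of_surjective (f : G →* X) (hf : Function.Surjective f) : IsSec G X :=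
  ⟨⊤, f.comp (⊤ : Subgroup G).subtype, fun x => by
    obtain ⟨g, rfl⟩ := hf x
    exact ⟨⟨g, mem_top g⟩, rfl⟩⟩

theorem IsSec.refl (G : Type u) [Group G] : IsSec G G :=
  IsSec.of_surjective (MonoidHom.id G) Function.surjective_id

theorem IsSec.of_equiv (e : G ≃* X) : IsSec G X := IsSec.of_surjective e.toMonoidHom e.surjective

theorem IsSec.subgroup (H : Subgroup G) : IsSec G H := ⟨H, MonoidHom.id H, Function.surjective_id⟩

theorem IsSec.quotient (N : Subgroup G) [N.Normal] : IsSec G (G ⧸ N) :=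
  IsSec.of_surjective (QuotientGroup.mk' N) (QuotientGroup.mk'_surjective N)

theorem IsSec.trans (h : IsSec G X) (h' : IsSec X Y) : IsSec G Y := by
  obtain ⟨K, f, hf⟩ := h
  obtain ⟨L, k, hk⟩ := h'
  refine ⟨(L.comap f).map K.subtype, ?_⟩
  have hmem : ∀ x : ↥((L.comap f).map K.subtype), ∃ h : (x : G) ∈ K, f ⟨x, h⟩ ∈ L := by
    rintro ⟨_, y, hy, rfl⟩
    exact ⟨y.2, hy⟩
  let f1 : ↥((L.comap f).map K.subtype) →* L :=
    { toFun := fun x => ⟨f ⟨x, (hmem x).1⟩, (hmem x).2⟩
      map_one' := by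
        apply Subtype.ext
        simp only [OneMemClass.coe_one]
        exact map_one f
      map_mul' := fun x y => by
        apply Subtype.ext
        simp only [Subgroup.coe_mul]
        rw [← map_mul]; rfl }
  refine ⟨k.comp f1, ?_⟩
  intro y
  obtain ⟨l, rfl⟩ := hk y
  obtain ⟨x, hx⟩ := hf l
  refine ⟨⟨x, x, ?_, rfl⟩, ?_⟩
  · show f x ∈ L
    rw [hx]; exact l.2
  · show k _ = k l
    congr 1
    exact Subtype.ext hx

theorem IsSec.finite [Finite G] (h : IsSec G X) : Finite X := by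
  obtain ⟨K, f, hf⟩ := h
  exact Finite.of_surjective f hf

theorem IsSec.card_le [Finite G] (h : IsSec G X) : Nat.card X ≤ Nat.card G := by
  obtain ⟨K, f, hf⟩ := h
  exact (Nat.card_le_card_of_surjective f hf).trans (Subgroup.card_le_card_group K)

/-- A section of `G` as a quotient `K ⧸ R.subgroupOf K`. -/
theorem IsSec.exists_quotient (h : IsSec G X) :
    ∃ (K R : Subgroup G) (_ : (R.subgroupOf K).Normal), Nonempty (↥K ⧸ R.subgroupOf K ≃* X) := by
  obtain ⟨K, f, hf⟩ := h
  have e : (f.ker.map K.subtype).subgroupOf K = f.ker :=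
    comap_map_eq_self_of_injective K.subtype_injective _
  have hn : ((f.ker.map K.subtype).subgroupOf K).Normal := by
    rw [e]; infer_instance
  exact ⟨K, f.ker.map K.subtype, hn,
    ⟨(QuotientGroup.quotientMulEquivOfEq e).trans (QuotientGroup.quotientKerEquivOfSurjective f hf)⟩⟩

theorem IsSec.of_quotient (K R : Subgroup G) [(R.subgroupOf K).Normal] :
    IsSec G (↥K ⧸ R.subgroupOf K) :=
  (IsSec.subgroup K).trans (IsSec.quotient (R.subgroupOf K))

/-- `G` itself as the section `⊤ / ⊥`. -/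
theorem card_top_bot : Nat.card (↥(⊤ : Subgroup G) ⧸ (⊥ : Subgroup G).subgroupOf ⊤) = Nat.card G := by
  have h1 : Nat.card (↥(⊤ : Subgroup G) ⧸ (⊥ : Subgroup G).subgroupOf ⊤) =
      ((⊥ : Subgroup G).subgroupOf ⊤).index := rfl
  rw [h1, bot_subgroupOf, index_bot, card_top]

theorem IsSec.exists_proper_quotient [Finite G] (h : IsSec G X) (hc : Nat.card X < Nat.card G) :
    ∃ (K R : Subgroup G) (_ : (R.subgroupOf K).Normal), (K = ⊤ → R ≠ ⊥) ∧
      Nonempty (↥K ⧸ R.subgroupOf K ≃* X) := by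
  obtain ⟨K, R, hn, ⟨e⟩⟩ := h.exists_quotient
  refine ⟨K, R, hn, ?_, ⟨e⟩⟩
  rintro rfl rfl
  have := Nat.card_congr e.toEquiv
  rw [card_top_bot] at this
  omega

end

end Cfsg.Agent.H39
end

-- part: H39/FusionRed
section
/-!
# Reduction of control of strong fusion to sections with `C(O_p) ≤ O_p`
-/

set_option autoImplicit false

namespace Cfsg.Agent.H39

open Subgroup Cfsg
open Cfsg.Agent.Lib.GoldschmidtFusion

universe u

section Common

variable {G : Type u} {X : Type u} [Group G] [Group X] [Finite G] {p : ℕ} [Fact p.Prime]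
  {𝓦 : Set Fn.{u}}

omit [Finite G] in
theorem map_map_conj (f : G →* X) (A : Subgroup G) (g : G) :
    (A.map (MulAut.conj g).toMonoidHom).map f = (A.map f).map (MulAut.conj (f g)).toMonoidHom := by
  rw [Subgroup.map_map, Subgroup.map_map]
  congr 1
  ext x
  simp

/-- If `f : G → X` is onto with kernel of order prime to `p` then `N_X(f(R))`, `R` a `p`-subgroup of `G`,
is covered by `N_G(R)`. -/
theorem exists_lift_normalizer (f : G →* X) (hf : Function.Surjective f)
    (hker : ¬ p ∣ Nat.card f.ker) {R : Subgroup G} (hR : IsPGroup p R) {y : X}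
    (hy : y ∈ normalizer ((R.map f : Subgroup X) : Set X)) :
    ∃ x ∈ normalizer (R : Set G), f x = y := by
  obtain ⟨x, rfl⟩ := hf y
  rw [mem_normalizer_iff_map_conj, ← map_map_conj] at hy
  have hRi : ¬ p ∣ R.relIndex (R ⊔ f.ker) := by
    have h1 : R.relIndex (R ⊔ f.ker) = R.relIndex f.ker := by
      have key : ∀ A B : Subgroup G, A ≤ B → Nat.card A * A.relIndex B = Nat.card B := by
        intro A B hAB
        have := card_mul_index (A.subgroupOf B)
        rwa [Nat.card_congr (subgroupOfEquivOfLe hAB).toEquiv] at this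
      have h1 := key f.ker (R ⊔ f.ker) le_sup_right
      rw [relIndex_sup_right] at h1
      have h2 := key (R ⊓ f.ker) R inf_le_left
      rw [inf_relIndex_left] at h2
      have h3 := key (R ⊓ f.ker) f.ker inf_le_right
      rw [inf_relIndex_right] at h3
      have h4 := key R (R ⊔ f.ker) le_sup_left
      have hpos : 0 < Nat.card R := Nat.card_pos
      apply Nat.eq_of_mul_eq_mul_left hpos
      rw [h4, ← h1, ← h3, ← h2]
      ring
    rw [h1]
    intro h
    exact hker (h.trans (relIndex_dvd_card _ _))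
  have hle : R.map (MulAut.conj x).toMonoidHom ≤ R ⊔ f.ker := by
    have : R.map (MulAut.conj x).toMonoidHom ≤ ((R.map (MulAut.conj x).toMonoidHom).map f).comap f :=
      le_comap_map _ _
    rw [hy, comap_map_eq] at this
    exact this
  obtain ⟨n, hn, hnle⟩ := exists_conj_le_in (p := p) hR hRi hle (hR.map _)
  have hn' : n ∈ ((R ⊔ f.ker : Subgroup G) : Set G) := hn
  rw [mul_normal] at hn'
  obtain ⟨w, hw, k, hk, rfl⟩ := Set.mem_mul.1 hn'
  refine ⟨k * x, ?_, ?_⟩
  · have h1 : (w * k) * x ∈ normalizer (R : Set G) := by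
      rw [mem_normalizer_iff_map_conj]
      refine map_conj_le_of_le_normalizer ?_
      rw [← map_conj_map_conj]
      exact hnle
    have h2 := mul_mem (inv_mem (le_normalizer (H := R) hw)) h1
    have e : w⁻¹ * (w * k * x) = k * x := by group
    rwa [e] at h2
  · rw [map_mul, show f k = 1 from hk, one_mul]

end Common

section PPrime

variable {G : Type u} {X : Type u} [Group G] [Group X] [Finite G] {p : ℕ} [Fact p.Prime]
  {𝓦 : Set Fn.{u}}

/-- Lifting a move through a `p'`-kernel. -/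
theorem lift_mv_of_coprime (h𝓦 : ∀ W ∈ 𝓦, IsCharPFunctor.{u} p W) (f : G →* X)
    (hf : Function.Surjective f) (hker : ¬ p ∣ Nat.card f.ker) (S : Sylow p G)
    {B : Subgroup X} {y : X}
    (h : Mv ((S : Subgroup G).map f) (StepsI 𝓦 ((S : Subgroup G).map f) ⊤) B y) :
    ∀ A : Subgroup G, A ≤ S → A.map f = B → ∃ g, Mv (S : Subgroup G) (StepsI 𝓦 (S : Subgroup G) ⊤) A g ∧
      ∀ a ∈ A, f (g * a * g⁻¹) = y * f a * y⁻¹ := by
  have hinj : ∀ x ∈ (S : Subgroup G), f x = 1 → x = 1 := fun x hx hx1 =>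
    eq_one_of_mem_of_mem S.isPGroup' hker hx hx1
  induction h with
  | @cent B c hB hc =>
    rintro A hA rfl
    refine ⟨1, Mv.cent hA (one_mem _), fun a ha => ?_⟩
    rw [conj_eq_of_mem_centralizer hc (mem_map_of_mem f ha)]
    simp
  | @base B y hB hBy hy =>
    rintro A hA rfl
    obtain ⟨W, hW, -, hyW⟩ := hy
    have hWS : inducedFunctor (G := X) W ((S : Subgroup G).map f) =
        (inducedFunctor (G := G) W (S : Subgroup G)).map f :=
      induced_map_of_injOn (h𝓦 W hW) f hinj S.isPGroup'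
    have hcf := isConjugacyFunctor_induced (X := G) (h𝓦 W hW)
    rw [hWS] at hyW
    obtain ⟨x, hx, rfl⟩ := exists_lift_normalizer f hf hker (isPGroup_functor hcf S.isPGroup') hyW
    set N := normalizer ((inducedFunctor (G := G) W (S : Subgroup G) : Subgroup G) : Set G) with hN
    have hSN : (S : Subgroup G) ≤ N := le_normalizer_functor hcf S.isPGroup'
    have hAx : A.map (MulAut.conj x).toMonoidHom ≤ N ⊓ ((S : Subgroup G) ⊔ f.ker) := by
      refine le_inf (conj_le_of_mem (hA.trans hSN) hx) ?_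
      rw [← map_map_conj] at hBy
      rw [← comap_map_eq]
      exact map_le_iff_le_comap.1 hBy
    obtain ⟨n, hn, hnle⟩ := exists_conj_le_sylow S (H := N ⊓ ((S : Subgroup G) ⊔ f.ker))
      (le_inf hSN le_sup_left) ((S.isPGroup'.to_le hA).map _) hAx
    have hn' : n ∈ (((S : Subgroup G) ⊔ f.ker : Subgroup G) : Set G) := hn.2
    rw [mul_normal] at hn'
    obtain ⟨s, hs, k, hk, rfl⟩ := Set.mem_mul.1 hn'
    have hkN : k ∈ N := by
      have := mul_mem (inv_mem (hSN hs)) hn.1
      rwa [inv_mul_cancel_left] at this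
    have hfk : f k = 1 := hk
    refine ⟨k * x, Mv.base hA ?_ ⟨W, hW, mem_top _, mul_mem hkN hx⟩, fun a ha => ?_⟩
    · have e : k * x = s⁻¹ * (s * k * x) := by group
      rw [e, ← map_conj_map_conj, ← map_conj_map_conj]
      exact conj_le_of_mem hnle (inv_mem hs)
    · rw [map_mul, map_mul, map_inv, map_mul, hfk, one_mul]
  | @mul B y z _ _ ih1 ih2 =>
    rintro A hA rfl
    obtain ⟨g, hg, hgf⟩ := ih1 A hA rfl
    have e : (A.map (MulAut.conj g).toMonoidHom).map f = (A.map f).map (MulAut.conj y).toMonoidHom := by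
      ext w
      constructor
      · rintro ⟨_, ⟨a, ha, rfl⟩, rfl⟩
        refine ⟨f a, mem_map_of_mem f ha, ?_⟩
        simpa using (hgf a ha).symm
      · rintro ⟨_, ⟨a, ha, rfl⟩, rfl⟩
        refine ⟨g * a * g⁻¹, conj_mem_map_conj ha g, ?_⟩
        simpa using (hgf a ha)
    obtain ⟨k, hk, hkf⟩ := ih2 _ hg.map_le e
    refine ⟨k * g, Mv.mul hg hk, fun a ha => ?_⟩
    have h1 := hkf (g * a * g⁻¹) (conj_mem_map_conj ha g)
    rw [hgf a ha] at h1
    have e1 : k * g * a * (k * g)⁻¹ = k * (g * a * g⁻¹) * k⁻¹ := by group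
    rw [e1, h1]
    group

/-- Control in a quotient by a normal `p'`-subgroup gives control in the group. -/
theorem fc_of_coprime_ker (h𝓦 : ∀ W ∈ 𝓦, IsCharPFunctor.{u} p W) (f : G →* X)
    (hf : Function.Surjective f) (hker : ¬ p ∣ Nat.card f.ker) (h : FC p 𝓦 X) : FC p 𝓦 G := by
  intro S A g _ hA hAg
  have hX : Finite X := Finite.of_surjective f hf
  have hc := h (S.mapSurjective hf)
  rw [Sylow.coe_mapSurjective] at hc
  have h1 := hc (A.map f) (f g) (mem_top _) (map_mono hA) (by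
    rw [← map_map_conj]; exact map_mono hAg)
  obtain ⟨g', hg', hgf⟩ := lift_mv_of_coprime h𝓦 f hf hker S h1 A hA rfl
  refine hg'.congr (fun a ha => ?_)
  have h2 := hgf a ha
  rw [← map_inv, ← map_mul, ← map_mul] at h2
  have h3 : f ((g' * a * g'⁻¹)⁻¹ * (g * a * g⁻¹)) = 1 := by
    rw [map_mul, map_inv, h2, inv_mul_cancel]
  have h4 : (g' * a * g'⁻¹)⁻¹ * (g * a * g⁻¹) ∈ (S : Subgroup G) :=
    mul_mem (inv_mem (hg'.map_le (conj_mem_map_conj ha g'))) (hAg (conj_mem_map_conj ha g))
  have h5 := eq_one_of_mem_of_mem S.isPGroup' hker h4 h3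
  exact (inv_mul_eq_one.1 h5).symm

end PPrime

section Local

variable {G : Type u} [Group G] [Finite G] {p : ℕ} [Fact p.Prime] {𝓦 : Set Fn.{u}}

/-- Control of strong fusion in all `p`-local subgroups implies control of strong fusion. -/
theorem fc_of_local (h𝓦 : ∀ W ∈ 𝓦, IsCharPFunctor.{u} p W)
    (hprop : ∀ V : Subgroup G, V ≠ ⊥ → IsPGroup p V → FC p 𝓦 (normalizer (V : Set G))) :
    FC p 𝓦 G := by
  intro S
  have h𝓦' : ∀ W ∈ (fun W => inducedFunctor (G := G) W) '' 𝓦, IsConjugacyFunctor p W := by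
    rintro _ ⟨W, hW, rfl⟩
    exact isConjugacyFunctor_induced (h𝓦 W hW)
  have := ctrl_of_local h𝓦' S (fun V hVS hV1 hVi => by
    rw [steps_induced]
    exact (hprop V hV1 (S.isPGroup'.to_le hVS)).subgroup h𝓦 inf_le_right
      (S.isPGroup'.to_le inf_le_left) hVi)
  rwa [steps_induced] at this

end Local

end Cfsg.Agent.H39
end

-- part: H39/FusionMain
section
/-!
# Control of strong fusion: the reduction theorem

`fc_red`: if `𝓦` controls strong fusion in all proper sections of `G` and `C_G(O_p(G)) ≰ O_p(G)` then it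
does so in `G`.
-/

set_option autoImplicit false

namespace Cfsg.Agent.H39

open Subgroup Cfsg
open Cfsg.Agent.Lib.GoldschmidtFusion

universe u

section Lift

variable {G : Type u} {X : Type u} [Group G] [Group X] [Finite G] {p : ℕ} [Fact p.Prime]
  {𝓦 : Set Fn.{u}}

omit [Finite G] in
/-- Lifting a move through a kernel contained in `S`. -/
theorem lift_mv_of_le (f : G →* X) (hf : Function.Surjective f) {S : Subgroup G}
    (hker : f.ker ≤ S) {Q : Subgroup G → G → Prop} (hQ : Rel Q)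
    (hone : ∀ A : Subgroup G, A ≤ S → Q A 1)
    (hW : ∀ W ∈ 𝓦, ∀ A : Subgroup G, A ≤ S → ∀ x : G,
      f x ∈ normalizer ((inducedFunctor (G := X) W (S.map f) : Subgroup X) : Set X) →
      A.map (MulAut.conj x).toMonoidHom ≤ S → Q A x)
    {B : Subgroup X} {y : X} (h : Mv (S.map f) (StepsI 𝓦 (S.map f) ⊤) B y) :
    ∀ A : Subgroup G, A ≤ S → A.map f = B → ∃ g, A.map (MulAut.conj g).toMonoidHom ≤ S ∧ Q A g ∧
      ∀ a ∈ A, f (g * a * g⁻¹) = y * f a * y⁻¹ := by
  induction h with
  | @cent B c hB hc =>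
    rintro A hA rfl
    refine ⟨1, by rwa [map_conj_one], hone A hA, fun a ha => ?_⟩
    rw [conj_eq_of_mem_centralizer hc (mem_map_of_mem f ha)]
    simp
  | @base B y hB hBy hy =>
    rintro A hA rfl
    obtain ⟨W, hW', -, hyW⟩ := hy
    obtain ⟨x, rfl⟩ := hf y
    have hAx : A.map (MulAut.conj x).toMonoidHom ≤ S := by
      rw [← map_map_conj] at hBy
      have := map_le_iff_le_comap.1 hBy
      rwa [comap_map_eq, sup_eq_left.2 hker] at this
    exact ⟨x, hAx, hW W hW' A hA x hyW hAx, fun a _ => by rw [map_mul, map_mul, map_inv]⟩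
  | @mul B y z _ _ ih1 ih2 =>
    rintro A hA rfl
    obtain ⟨g, hgS, hg, hgf⟩ := ih1 A hA rfl
    have e : (A.map (MulAut.conj g).toMonoidHom).map f = (A.map f).map (MulAut.conj y).toMonoidHom := by
      ext w
      constructor
      · rintro ⟨_, ⟨a, ha, rfl⟩, rfl⟩
        refine ⟨f a, mem_map_of_mem f ha, ?_⟩
        simpa using (hgf a ha).symm
      · rintro ⟨_, ⟨a, ha, rfl⟩, rfl⟩
        refine ⟨g * a * g⁻¹, conj_mem_map_conj ha g, ?_⟩
        simpa using (hgf a ha)
    obtain ⟨k, hkS, hk, hkf⟩ := ih2 _ hgS e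
    refine ⟨k * g, by rwa [map_conj_map_conj] at hkS, hQ.mul hg hk, fun a ha => ?_⟩
    have h1 := hkf (g * a * g⁻¹) (conj_mem_map_conj ha g)
    rw [hgf a ha] at h1
    have e1 : k * g * a * (k * g)⁻¹ = k * (g * a * g⁻¹) * k⁻¹ := by group
    rw [e1, h1]
    group

end Lift

section PQuot

variable {G : Type*} [Group G] [Finite G] {p : ℕ} [Fact p.Prime]

/-- If `R` has index prime to `p` in `D`, `C ⊴ D` and every `p'`-element of `D` is in `C` then
`D = R C`. -/
theorem exists_mul_of_pGroup_quot {R D C : Subgroup G} (hRD : R ≤ D) (hRi : ¬ p ∣ R.relIndex D)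
    (hCD : C ≤ D) (hDC : D ≤ normalizer (C : Set G))
    (hcop : ∀ d ∈ D, Nat.Coprime (orderOf d) p → d ∈ C) {n : G} (hn : n ∈ D) :
    ∃ s ∈ R, ∃ c ∈ C, n = s * c := by
  have hp : p.Prime := Fact.out
  have hnorm : (C.subgroupOf D).Normal := (normal_subgroupOf_iff_le_normalizer hCD).2 hDC
  have hpg : IsPGroup p (D ⧸ C.subgroupOf D) := by
    intro x
    obtain ⟨y, rfl⟩ := QuotientGroup.mk_surjective x
    obtain ⟨k, m, hm, hkm⟩ := Nat.exists_eq_pow_mul_and_not_dvd (orderOf_pos (y : G)).ne' p hp.one_lt.ne'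
    refine ⟨k, ?_⟩
    rw [← QuotientGroup.mk_pow, QuotientGroup.eq_one_iff, mem_subgroupOf]
    apply hcop
    · exact (y ^ p ^ k).2
    · rw [Subgroup.coe_pow, orderOf_pow_of_dvd (pow_ne_zero _ hp.ne_zero) (by rw [hkm]; exact Dvd.intro _ rfl), hkm,
        Nat.mul_div_cancel_left _ (pow_pos hp.pos _)]
      exact ((Nat.Prime.coprime_iff_not_dvd hp).2 hm).symm
  have hKN : R ⊔ C = D := by
    apply le_antisymm (sup_le hRD hCD)
    rw [← relIndex_eq_one]
    obtain ⟨j, hj⟩ := (IsPGroup.iff_card.1 hpg)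
    have h1 : (R ⊔ C).relIndex D ∣ p ^ j := by
      rw [← hj]
      exact relIndex_dvd_of_le_left D le_sup_right
    have h2 : (R ⊔ C).relIndex D ∣ R.relIndex D :=
      relIndex_dvd_of_le_left D le_sup_left
    obtain ⟨i, -, hi⟩ := (Nat.dvd_prime_pow hp).1 h1
    rcases Nat.eq_zero_or_pos i with h0 | h0
    · rw [hi, h0, pow_zero]
    · exfalso
      apply hRi
      refine dvd_trans ?_ h2
      rw [hi]
      exact dvd_pow_self p h0.ne'
  have hmem : n ∈ ((R ⊔ C : Subgroup G) : Set G) := by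
    rw [hKN]; exact hn
  rw [coe_mul_of_left_le_normalizer_right _ _ (hRD.trans hDC)] at hmem
  obtain ⟨s, hs, c, hc, rfl⟩ := Set.mem_mul.1 hmem
  exact ⟨s, hs, c, hc, rfl⟩

omit [Fact p.Prime] in
/-- A Sylow subgroup of `N` meets a normal subgroup of `N` in a Sylow subgroup. -/
theorem not_dvd_relIndex_of_le_normalizer {S N D : Subgroup G} (hDN : D ≤ N)
    (hND : N ≤ normalizer (D : Set G)) (h : ¬ p ∣ (S ⊓ N).relIndex N) : ¬ p ∣ (S ⊓ D).relIndex D := by
  have hnorm : (D.subgroupOf N).Normal := (normal_subgroupOf_iff_le_normalizer hDN).2 hND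
  have h1 : (S ⊓ N).relIndex D ∣ (S ⊓ N).relIndex N := by
    have e1 : (S ⊓ N).relIndex D = ((S ⊓ N).subgroupOf N).relIndex (D.subgroupOf N) := by
      rw [relIndex_subgroupOf hDN]
    have e2 : (S ⊓ N).relIndex N = ((S ⊓ N).subgroupOf N).index := rfl
    rw [e1, e2]
    exact relIndex_dvd_index_of_normal_right _ _
  intro h2
  apply h
  refine dvd_trans ?_ h1
  have : (S ⊓ D).relIndex D = (S ⊓ N).relIndex D := by
    rw [inf_relIndex_right, ← inf_relIndex_right (S ⊓ N) D, inf_assoc, inf_eq_right.2 hDN,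
      inf_relIndex_right]
  rwa [← this]

end PQuot

section Main

variable {G : Type u} [Group G] [Finite G] {p : ℕ} [Fact p.Prime] {𝓦 : Set Fn.{u}}

theorem pCore_normal (p : ℕ) (G : Type*) [Group G] : (pCore p G).Normal := by
  rw [Lib.Cores.pCore_def (G := G) p]
  exact Lib.Cores.sSup_normal _ (fun N hN => hN.1)

theorem pCore_le_sylow (S : Sylow p G) : pCore p G ≤ S := by
  have hn := pCore_normal p G
  have hp := Lib.Cores.pCore_isPGroup (G := G) p
  obtain ⟨R, hR⟩ := hp.exists_le_sylow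
  obtain ⟨g, hg⟩ := MulAction.exists_smul_eq G R S
  intro x hx
  rw [← hg, Sylow.coe_subgroup_smul]
  have h1 : g⁻¹ * x * g ∈ (R : Subgroup G) := hR (by simpa using hn.conj_mem x hx g⁻¹)
  have := Subgroup.smul_mem_pointwise_smul _ (MulAut.conj g) _ h1
  simpa [mul_assoc] using this

/-- `O_p(G/O_p(G)) = 1`. -/
theorem pCore_quotient_eq_bot (p : ℕ) (G : Type*) [Group G] [hn : (pCore p G).Normal] :
    pCore p (G ⧸ pCore p G) = ⊥ := by
  have h := Lib.Cores.comap_mk_pCore (G := G) p (Lib.Cores.pCore_isPGroup p)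
  have h2 : ((pCore p (G ⧸ pCore p G)).comap (QuotientGroup.mk' (pCore p G))).map
      (QuotientGroup.mk' (pCore p G)) = pCore p (G ⧸ pCore p G) :=
    map_comap_eq_self_of_surjective (QuotientGroup.mk'_surjective _) _
  rw [← h2, h, QuotientGroup.map_mk'_self]

omit [Finite G] [Fact p.Prime] in
/-- An element of order prime to `p` centralizing a normal `p`-subgroup `P` and `B / P` centralizes
`B`. -/
theorem mem_centralizer_of_coprime {P B : Subgroup G} (hPp : IsPGroup p P) {d : G}
    (hd : Nat.Coprime (orderOf d) p) (hdP : d ∈ centralizer (P : Set G))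
    (hdB : ∀ b ∈ B, b⁻¹ * (d * b * d⁻¹) ∈ P) : d ∈ centralizer (B : Set G) := by
  rw [mem_centralizer_iff]
  intro b hb
  set z := b⁻¹ * (d * b * d⁻¹) with hz
  have hzP : z ∈ P := hdB b hb
  have hdz : z * d = d * z := mem_centralizer_iff.1 hdP z hzP
  have h1 : d * b * d⁻¹ = b * z := by rw [hz]; group
  have h2 : ∀ k : ℕ, d ^ k * b * (d ^ k)⁻¹ = b * z ^ k := by
    intro k
    induction k with
    | zero => simp
    | succ k ih =>
      have hc : Commute d z := hdz.symm
      have e : d ^ (k + 1) * b * (d ^ (k + 1))⁻¹ = d * (d ^ k * b * (d ^ k)⁻¹) * d⁻¹ := by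
        rw [pow_succ']; group
      rw [e, ih]
      have e2 : d * (b * z ^ k) * d⁻¹ = (d * b * d⁻¹) * (d * z ^ k * d⁻¹) := by group
      rw [e2, h1, (hc.pow_right k).eq, mul_assoc _ d, mul_inv_cancel, mul_one, pow_succ', mul_assoc]
  have h3 := h2 (orderOf d)
  rw [pow_orderOf_eq_one] at h3
  have h4 : z ^ orderOf d = 1 := by
    have : b * z ^ orderOf d = b * 1 := by rw [← h3]; group
    exact mul_left_cancel this
  obtain ⟨j, hj⟩ := hPp ⟨z, hzP⟩
  have hj' : z ^ p ^ j = 1 := by simpa using congrArg (Subtype.val) hj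
  have h5 : z = 1 := by
    rw [← orderOf_eq_one_iff]
    have h6 : orderOf z ∣ orderOf d := orderOf_dvd_of_pow_eq_one h4
    have h7 : orderOf z ∣ p ^ j := orderOf_dvd_of_pow_eq_one hj'
    exact Nat.eq_one_of_dvd_coprimes (hd.pow_right j) h6 h7
  rw [h5, mul_one] at h1
  calc b * d = d * b * d⁻¹ * d := by rw [h1]
    _ = d * b := by group

/-- The case where `G = C_G(P) S`, `P = O_p(G) ≠ 1`. -/
theorem fc_of_centralizer_sup (h𝓦 : ∀ W ∈ 𝓦, IsCharPFunctor.{u} p W)
    (hsub : ∀ H : Subgroup G, H ≠ ⊤ → FC p 𝓦 H)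
    [hn : (pCore p G).Normal] (hquot : FC p 𝓦 (G ⧸ pCore p G))
    (hcop : ∀ g : G, Nat.Coprime (orderOf g) p → g ∈ centralizer (pCore p G : Set G))
    (hPne : ∀ S : Sylow p G, (S : Subgroup G) ≠ pCore p G) : FC p 𝓦 G := by
  intro S A₀ g₀ _ hA₀ hg₀
  set P := pCore p G with hPdef
  have hPS : P ≤ S := pCore_le_sylow S
  have hPp : IsPGroup p P := Lib.Cores.pCore_isPGroup p
  set Q := Mv (S : Subgroup G) (StepsI 𝓦 (S : Subgroup G) ⊤) with hQdef
  have hQ : Rel Q := rel_mv StepsI.inv
  -- control in proper subgroups containing `S`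
  have hHS : ∀ H : Subgroup G, (S : Subgroup G) ≤ H → H ≠ ⊤ → ∀ A : Subgroup G, A ≤ S → ∀ h ∈ H,
      A.map (MulAut.conj h).toMonoidHom ≤ S → Q A h := by
    intro H hSH hH A hA h hh hAh
    have hi : ¬ p ∣ (S : Subgroup G).relIndex H := fun h =>
      S.not_dvd_index (h.trans (relIndex_dvd_index_of_le hSH))
    exact ((hsub H hH).subgroup h𝓦 hSH S.isPGroup' hi A h hh hA hAh).mono' le_rfl (StepsI.mono le_top)
  have hStop : (S : Subgroup G) ≠ ⊤ := by
    intro h
    have hSn : (S : Subgroup G).Normal := by rw [h]; infer_instance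
    exact hPne S (le_antisymm (Lib.Cores.le_pCore hSn S.isPGroup') hPS)
  set f := QuotientGroup.mk' P with hf
  have hfs : Function.Surjective f := QuotientGroup.mk'_surjective P
  have hker : f.ker = P := QuotientGroup.ker_mk' P
  have hkerm : ∀ x : G, f x = 1 ↔ x ∈ P := fun x => QuotientGroup.eq_one_iff x
  have hmapP : ∀ x : G, P.map (MulAut.conj x).toMonoidHom = P := by
    intro x
    rw [← mem_normalizer_iff_map_conj, normalizer_eq_top P]
    exact mem_top _
  have hSfp : IsPGroup p ((S : Subgroup G).map f) := S.isPGroup'.map f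
  have hSf1 : (S : Subgroup G).map f ≠ ⊥ := by
    intro h
    rw [(Subgroup.map_eq_bot_iff), hker] at h
    exact hPne S (le_antisymm h hPS)
  suffices H : ∀ A : Subgroup G, A ≤ S → P ≤ A → ∀ g : G, A.map (MulAut.conj g).toMonoidHom ≤ S → Q A g by
    refine hQ.mono le_sup_left (H (A₀ ⊔ P) (sup_le hA₀ hPS) le_sup_right g₀ ?_)
    rw [Subgroup.map_sup, hmapP]
    exact sup_le hg₀ hPS
  intro A hA hPA g hg
  refine alperin S hQ P ?_ hA hPA hg
  clear hA hPA hg g A
  intro B hBS hPB hBi _ n hn'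
  have hBn := mem_normalizer_iff_map_conj.1 hn'
  have hc := hquot (S.mapSurjective hfs)
  rw [Sylow.coe_mapSurjective] at hc
  have h1 := hc (B.map f) (f n) (mem_top _) (map_mono hBS) (by
    rw [← map_map_conj, hBn]; exact map_mono hBS)
  obtain ⟨g, hgS, hg, hgf⟩ := lift_mv_of_le f hfs (S := (S : Subgroup G)) (by rw [hker]; exact hPS) hQ
    (fun A hA => Mv.cent hA (one_mem _)) (by
      intro W hW A hA x hx hAx
      set L := (normalizer ((inducedFunctor (G := G ⧸ P) W ((S : Subgroup G).map f) :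
        Subgroup (G ⧸ P)) : Set (G ⧸ P))).comap f with hL
      have hcf := isConjugacyFunctor_induced (X := G ⧸ P) (h𝓦 W hW)
      have hSL : (S : Subgroup G) ≤ L := by
        rw [hL, ← map_le_iff_le_comap]
        exact le_normalizer_functor hcf hSfp
      have hLtop : L ≠ ⊤ := by
        intro h
        have h2 : normalizer ((inducedFunctor (G := G ⧸ P) W ((S : Subgroup G).map f) :
            Subgroup (G ⧸ P)) : Set (G ⧸ P)) = ⊤ := by
          rw [← map_comap_eq_self_of_surjective hfs (normalizer _), ← hL, h,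
            map_top_of_surjective f hfs]
        have h3 := normalizer_eq_top_iff.1 h2
        have h4 := Lib.Cores.le_pCore h3 (isPGroup_functor hcf hSfp)
        rw [pCore_quotient_eq_bot] at h4
        exact induced_ne_bot (h𝓦 W hW) hSfp hSf1 (le_bot_iff.1 h4)
      exact hHS L hSL hLtop A hA x hx hAx) h1 B hBS rfl
  set D := (centralizer ((B.map f : Subgroup (G ⧸ P)) : Set (G ⧸ P))).comap f with hD
  have hmemD : ∀ d : G, d ∈ D ↔ ∀ b ∈ B, b⁻¹ * (d * b * d⁻¹) ∈ P := by
    intro d
    rw [hD, mem_comap, mem_centralizer_iff]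
    have key : ∀ b : G, (f b * f d = f d * f b ↔ b⁻¹ * (d * b * d⁻¹) ∈ P) := by
      intro b
      rw [← hkerm]
      simp only [map_mul, map_inv]
      constructor
      · intro h; rw [← h]; group
      · intro h
        have : f b * ((f b)⁻¹ * (f d * f b * (f d)⁻¹)) * f d = f b * 1 * f d := by rw [h]
        rw [mul_one] at this
        rw [← this]; group
    constructor
    · intro h b hb
      exact (key b).1 (h (f b) (mem_map_of_mem f hb))
    · rintro h _ ⟨b, hb, rfl⟩
      exact (key b).2 (h b hb)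
  have hDN : D ≤ normalizer (B : Set G) := by
    intro d hd
    rw [mem_normalizer_iff_map_conj]
    refine map_conj_le_of_le_normalizer ?_
    rintro _ ⟨b, hb, rfl⟩
    have := mul_mem hb (hPB ((hmemD d).1 hd b hb))
    simpa [mul_assoc] using this
  have hND : normalizer (B : Set G) ≤ normalizer (D : Set G) := by
    intro x hx
    rw [mem_normalizer_iff_map_conj]
    refine map_conj_le_of_le_normalizer ?_
    rintro _ ⟨d, hd, rfl⟩
    change x * d * x⁻¹ ∈ D
    rw [hmemD]
    intro b hb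
    have hb' : x⁻¹ * b * x ∈ B := by
      have := conj_mem_map_conj hb x⁻¹
      rw [mem_normalizer_iff_map_conj.1 (inv_mem hx), inv_inv] at this
      exact this
    have h2 := (hmemD d).1 hd _ hb'
    have h3 : x * ((x⁻¹ * b * x)⁻¹ * (d * (x⁻¹ * b * x) * d⁻¹)) * x⁻¹ ∈ P := hn.conj_mem _ h2 x
    have e : x * ((x⁻¹ * b * x)⁻¹ * (d * (x⁻¹ * b * x) * d⁻¹)) * x⁻¹ =
        b⁻¹ * (x * d * x⁻¹ * b * (x * d * x⁻¹)⁻¹) := by group
    rwa [e] at h3
  have hCD : centralizer (B : Set G) ≤ D := by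
    intro c hc
    rw [hmemD]
    intro b hb
    rw [conj_eq_of_mem_centralizer hc hb, inv_mul_cancel]
    exact one_mem _
  have hDC : D ≤ normalizer ((centralizer (B : Set G) : Subgroup G) : Set G) := by
    intro d hd
    have hd' := hDN hd
    rw [mem_normalizer_iff_map_conj]
    refine map_conj_le_of_le_normalizer ?_
    rintro _ ⟨c, hc, rfl⟩
    change d * c * d⁻¹ ∈ _
    rw [← mem_normalizer_iff_map_conj.1 hd', mem_centralizer_map_conj]
    simpa [mul_assoc] using hc
  have hcD : g⁻¹ * n ∈ D := by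
    rw [hmemD]
    intro b hb
    rw [← hkerm]
    have h2 := hgf b hb
    simp only [map_mul, map_inv] at h2 ⊢
    have h3 : (f b)⁻¹ * ((f g)⁻¹ * f n * f b * ((f g)⁻¹ * f n)⁻¹) =
        (f b)⁻¹ * (f g)⁻¹ * (f n * f b * (f n)⁻¹) * f g := by group
    rw [h3, ← h2]
    group
  obtain ⟨s, hs, c, hc', hsc⟩ := exists_mul_of_pGroup_quot (R := (S : Subgroup G) ⊓ D) (D := D)
    (C := centralizer (B : Set G)) inf_le_right
    (not_dvd_relIndex_of_le_normalizer hDN hND hBi) hCD hDC
    (fun d hd hdc => mem_centralizer_of_coprime hPp hdc (hcop d hdc) ((hmemD d).1 hd)) hcD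
  have hBc : B.map (MulAut.conj c).toMonoidHom = B := map_conj_of_mem_centralizer hc'
  have hBs : B.map (MulAut.conj s).toMonoidHom = B := mem_normalizer_iff_map_conj.1 (hDN hs.2)
  have hQc : Q B (s * c) := by
    refine hQ.mul (Mv.cent hBS hc') ?_
    rw [hBc]
    exact hHS S le_rfl hStop B hBS s hs.1 (by rw [hBs]; exact hBS)
  rw [← hsc] at hQc
  have hQn : Q B (g * (g⁻¹ * n)) := by
    refine hQ.mul hQc ?_
    rw [hsc, ← map_conj_map_conj, hBc, hBs]
    exact hg
  rwa [mul_inv_cancel_left] at hQn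

/-- **The reduction step**: if `𝓦` controls strong fusion in all proper sections of `G` then it does so in
`G`, unless possibly `C_G(O_p(G)) ≤ O_p(G)`. -/
theorem fc_red (h𝓦 : ∀ W ∈ 𝓦, IsCharPFunctor.{u} p W)
    (hprop : ∀ (X : Type u) [Group X] [Finite X], IsSec G X → Nat.card X < Nat.card G → FC p 𝓦 X)
    (hcon : ¬ centralizer (pCore p G : Set G) ≤ pCore p G) : FC p 𝓦 G := by
  have hp : p.Prime := Fact.out
  have hn := pCore_normal p G
  set P := pCore p G with hP
  have hsub : ∀ H : Subgroup G, H ≠ ⊤ → FC p 𝓦 H := by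
    intro H hH
    refine hprop H (IsSec.subgroup H) ?_
    exact lt_of_le_of_ne (Subgroup.card_le_card_group H) (fun h => hH (Subgroup.eq_top_of_card_eq H h))
  have hquot : ∀ K : Subgroup G, K ≠ ⊥ → ∀ _ : K.Normal, FC p 𝓦 (G ⧸ K) := by
    intro K hK hKn
    refine hprop _ (IsSec.quotient K) ?_
    rw [← Subgroup.index_eq_card]
    have h1 := K.card_mul_index
    have h2 : 1 < Nat.card K := by
      by_contra h
      exact hK (Subgroup.card_eq_one.1 (le_antisymm (not_lt.1 h) Nat.card_pos))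
    have h3 : 0 < K.index := Nat.pos_of_ne_zero K.index_ne_zero_of_finite
    nlinarith
  by_cases hK : ∃ K : Subgroup G, K.Normal ∧ ¬ p ∣ Nat.card K ∧ K ≠ ⊥
  · obtain ⟨K, hKn, hKc, hK1⟩ := hK
    refine fc_of_coprime_ker h𝓦 (QuotientGroup.mk' K) (QuotientGroup.mk'_surjective K) ?_
      (hquot K hK1 hKn)
    rwa [QuotientGroup.ker_mk']
  have hK' : ∀ K : Subgroup G, K.Normal → ¬ p ∣ Nat.card K → K = ⊥ := by
    intro K h1 h2
    by_contra h3
    exact hK ⟨K, h1, h2, h3⟩
  by_cases hP1 : P = ⊥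
  · refine fc_of_local h𝓦 (fun V hV1 hVp => hsub _ ?_)
    intro h
    have hVn := normalizer_eq_top_iff.1 h
    have := Lib.Cores.le_pCore hVn hVp
    rw [← hP, hP1] at this
    exact hV1 (le_bot_iff.1 this)
  set C := centralizer (P : Set G) with hC
  have hCn : C.Normal := inferInstance
  have hSne : ∀ S : Sylow p G, (S : Subgroup G) ≠ P := by
    intro S hSP
    apply normalizer_ne_top S hK' hcon
    rw [← hP, ← hC, hSP, inf_eq_left.2 le_sup_right, normalizer_eq_top]
  by_cases hCS : ∃ S : Sylow p G, C ⊔ (S : Subgroup G) = ⊤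
  · obtain ⟨S, hS⟩ := hCS
    refine fc_of_centralizer_sup h𝓦 hsub (hquot P hP1 hn) ?_ hSne
    intro g hg
    have hpg : IsPGroup p (G ⧸ C) := by
      intro x
      obtain ⟨y, rfl⟩ := QuotientGroup.mk_surjective x
      have hy : y ∈ ((C ⊔ (S : Subgroup G) : Subgroup G) : Set G) := by rw [hS]; exact mem_top _
      rw [normal_mul] at hy
      obtain ⟨c, hc, s, hs, rfl⟩ := Set.mem_mul.1 hy
      obtain ⟨k, hk⟩ := S.isPGroup' ⟨s, hs⟩
      refine ⟨k, ?_⟩
      have hk' : s ^ p ^ k = 1 := by simpa using congrArg Subtype.val hk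
      have h1 : ((c * s : G) : G ⧸ C) = (s : G ⧸ C) := by
        rw [QuotientGroup.mk_mul, (QuotientGroup.eq_one_iff c).2 hc, one_mul]
      rw [h1, ← QuotientGroup.mk_pow, hk', QuotientGroup.mk_one]
    obtain ⟨k, hk⟩ := hpg (g : G ⧸ C)
    have h1 : orderOf (g : G ⧸ C) ∣ p ^ k := orderOf_dvd_of_pow_eq_one hk
    have h2 : orderOf (g : G ⧸ C) ∣ orderOf g := orderOf_map_dvd (QuotientGroup.mk' C) g
    have h3 := Nat.eq_one_of_dvd_coprimes (hg.pow_right k) h2 h1
    exact (QuotientGroup.eq_one_iff g).1 (orderOf_eq_one_iff.1 h3)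
  · intro S A g _ hA hg
    have hCS' : C ⊔ (S : Subgroup G) ≠ ⊤ := fun h => hCS ⟨S, h⟩
    have hPS : P ≤ S := pCore_le_sylow S
    set L := C ⊔ P with hL
    have hLn : L.Normal := inferInstance
    set N := normalizer (((S : Subgroup G) ⊓ L : Subgroup G) : Set G) with hN
    have hNtop : N ≠ ⊤ := normalizer_ne_top S hK' hcon
    have hSN : (S : Subgroup G) ≤ N := by
      intro s hs
      rw [hN, mem_normalizer_iff_map_conj]
      refine map_conj_le_of_le_normalizer ?_
      exact le_inf (conj_le_of_mem inf_le_left hs)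
        ((map_conj_mono inf_le_right s).trans (by
          rw [mem_normalizer_iff_map_conj.1 (by rw [normalizer_eq_top L]; exact mem_top s)]))
    have hHS : ∀ H : Subgroup G, (S : Subgroup G) ≤ H → H ≠ ⊤ → ∀ A : Subgroup G, A ≤ S → ∀ h ∈ H,
        A.map (MulAut.conj h).toMonoidHom ≤ S → Mv (S : Subgroup G) (StepsI 𝓦 (S : Subgroup G) ⊤) A h := by
      intro H hSH hH A hA h hh hAh
      have hi : ¬ p ∣ (S : Subgroup G).relIndex H := fun h =>
        S.not_dvd_index (h.trans (relIndex_dvd_index_of_le hSH))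
      exact ((hsub H hH).subgroup h𝓦 hSH S.isPGroup' hi A h hh hA hAh).mono' le_rfl (StepsI.mono le_top)
    have hLp : IsPGroup p ((S : Subgroup G) ⊓ L : Subgroup G) := S.isPGroup'.to_le inf_le_left
    have hLi : ¬ p ∣ ((S : Subgroup G) ⊓ L).relIndex L := by
      rw [inf_relIndex_right]
      exact fun h => S.not_dvd_index (h.trans (relIndex_dvd_index_of_normal_right _ _))
    refine factorization S (rel_mv StepsI.inv) (H := C ⊔ (S : Subgroup G)) (N := N) le_sup_right hSN ?_
      (hHS _ le_sup_right hCS') (hHS _ hSN hNtop) hA hg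
    intro x
    have hmapL : ((S : Subgroup G) ⊓ L : Subgroup G).map (MulAut.conj x⁻¹).toMonoidHom ≤ L := by
      refine (map_conj_mono inf_le_right _).trans ?_
      rw [mem_normalizer_iff_map_conj.1 (by rw [normalizer_eq_top L]; exact mem_top x⁻¹)]
    obtain ⟨l, hl, hle⟩ := exists_conj_le_in (p := p) hLp hLi hmapL (hLp.map _)
    rw [map_conj_map_conj] at hle
    have hlx : l * x⁻¹ ∈ N := mem_normalizer_iff_map_conj.2 (map_conj_le_of_le_normalizer hle)
    refine ⟨(l * x⁻¹)⁻¹, inv_mem hlx, l, ?_, by group⟩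
    exact (sup_le_sup_left hPS C) hl

end Main

end Cfsg.Agent.H39
end
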