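import Cfsg.Agent.H39.FTMain
import Cfsg.Agent.PLocal.PConstrained
set_option linter.all false

/-!
# Single functors: criteria for control of transfer
-/

set_option autoImplicit false

namespace Cfsg.Agent.H39

open Subgroup Cfsg
open Cfsg.Agent.Lib.GoldschmidtFusion
open scoped commutatorElement

universe u

section

variable {G : Type u} [Group G] [Finite G] {p : ℕ} [Fact p.Prime] {W : Fn.{u}}

omit [Fact p.Prime] in
theorem single_mem {W : Fn.{u}} (hW : IsCharPFunctor.{u} p W) : ∀ W' ∈ ({W} : Set Fn.{u}), IsCharPFunctor.{u} p W' := by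
  rintro W' rfl; exact hW

/-- If all proper sections are controlled and `O_p(G) ∩ G' = O_p(G) ∩ N(W(S))'` then `W` controls
transfer in `G`. -/
theorem ft_of_core_inf (hW : IsCharPFunctor.{u} p W)
    (hprop : ∀ (X : Type u) [Group X] [Finite X], IsSec G X → Nat.card X < Nat.card G → FT p {W} X)
    (h : ∀ S : Sylow p G, pCore p G ⊓ _root_.commutator G =
      pCore p G ⊓ ⁅normalizer ((inducedFunctor (G := G) W (S : Subgroup G) : Subgroup G) : Set G),
        normalizer ((inducedFunctor (G := G) W (S : Subgroup G) : Subgroup G) : Set G)⁆) :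
    FT p {W} G := by
  have hn := pCore_normal p G
  have h𝓦 := single_mem (p := p) hW
  obtain ⟨S⟩ : Nonempty (Sylow p G) := inferInstance
  refine ft_of_one h𝓦 S ?_
  have hcf := isConjugacyFunctor_induced (X := G) hW
  by_cases hSP : (S : Subgroup G) = pCore p G
  · have hn' : (inducedFunctor (G := G) W (S : Subgroup G)).Normal := by
      rw [← normalizer_eq_top_iff, eq_top_iff]
      refine le_trans ?_ (normalizer_le_normalizer_functor hcf S.isPGroup')
      rw [hSP, normalizer_eq_top]
    exact ft_of_normal h𝓦 S rfl hn' S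
  have hsub : ∀ H : Subgroup G, H ≠ ⊤ → FT p {W} H := by
    intro H hH
    refine hprop H (IsSec.subgroup H) ?_
    exact lt_of_le_of_ne (Subgroup.card_le_card_group H) (fun h => hH (Subgroup.eq_top_of_card_eq H h))
  have hPS := pCore_le_sylow S
  set T := focalI {W} (S : Subgroup G) ⊤ with hT
  have hHS : ∀ H : Subgroup G, (S : Subgroup G) ≤ H → H ≠ ⊤ → (S : Subgroup G) ⊓ ⁅H, H⁆ ≤ T :=
    fun H hSH hH => inf_commutator_le_of_proper h𝓦 hsub S hSH hH
  have hTG : T ≤ (⁅(⊤ : Subgroup G), (⊤ : Subgroup G)⁆ : Subgroup G) := focalI_le.trans inf_le_right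
  by_cases hP1 : pCore p G = ⊥
  · -- then all `p`-local subgroups are proper
    refine ft_of_local h𝓦 (fun V hV1 hVp => hsub _ ?_) S
    intro h
    have hVn := normalizer_eq_top_iff.1 h
    have := Lib.Cores.le_pCore hVn hVp
    rw [hP1] at this
    exact hV1 (le_bot_iff.1 this)
  have hquot : FT p {W} (G ⧸ pCore p G) := by
    refine hprop _ (IsSec.quotient _) ?_
    rw [← Subgroup.index_eq_card]
    have h1 := (pCore p G).card_mul_index
    have h2 : 1 < Nat.card (pCore p G) := by
      by_contra h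
      exact hP1 (Subgroup.card_eq_one.1 (le_antisymm (not_lt.1 h) Nat.card_pos))
    have h3 : 0 < (pCore p G).index := Nat.pos_of_ne_zero (pCore p G).index_ne_zero_of_finite
    nlinarith
  rintro x ⟨hxS, hxG⟩
  obtain ⟨t, ht, htx⟩ := inf_commutator_le_sup h𝓦 hquot S hSP hHS x hxS hxG
  have h0 : t⁻¹ * x ∈ (⁅(⊤ : Subgroup G), (⊤ : Subgroup G)⁆ : Subgroup G) := mul_mem (inv_mem (hTG ht)) hxG
  have h1 : t⁻¹ * x ∈ pCore p G ⊓ _root_.commutator G := ⟨htx, h0⟩
  rw [h S] at h1
  have h2 : t⁻¹ * x ∈ T := by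
    rw [hT, focalI_singleton, top_inf_eq]
    exact ⟨hPS htx, h1.2⟩
  have h3 := mul_mem ht h2
  rwa [mul_inv_cancel_left] at h3

/-- If all proper sections are controlled and `S \ O_p(G)` has a good element whenever `W(S)` is not
normal then `W` controls transfer in `G`. -/
theorem ft_of_good (hW : IsCharPFunctor.{u} p W)
    (hprop : ∀ (X : Type u) [Group X] [Finite X], IsSec G X → Nat.card X < Nat.card G → FT p {W} X)
    (h : ∀ S : Sylow p G, ¬ (inducedFunctor (G := G) W (S : Subgroup G)).Normal →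
      ∃ g : G, g ∈ (S : Subgroup G) ∧ g ∉ pCore p G ∧ Good p (pCore p G) g) :
    FT p {W} G := by
  have h𝓦 := single_mem (p := p) hW
  by_contra hG
  obtain ⟨S⟩ : Nonempty (Sylow p G) := inferInstance
  have hn : ¬ (inducedFunctor (G := G) W (S : Subgroup G)).Normal := fun hn =>
    hG (ft_of_normal h𝓦 S rfl hn)
  obtain ⟨g, hgS, hgP, hg⟩ := h S hn
  exact (minimal_failure h𝓦 ⟨W, rfl⟩ hprop hG S rfl rfl).2.2.2 g hgS hgP hg

end

end Cfsg.Agent.H39
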